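import Mathlib.AlgebraicGeometry.ProjectiveSpectrum.Functor
import Mathlib.AlgebraicGeometry.Morphisms.IsIso

/-!
# Properties of `Proj.map` checked on the standard charts
-/

noncomputable section

universe u

open CategoryTheory CategoryTheory.Limits AlgebraicGeometry TopologicalSpace HomogeneousLocalization
open scoped HomogeneousIdeal

namespace Groth.Agent.Lib.ProjGlue.MapLocal

variable {R R' A B : Type u} [CommRing R] [CommRing R'] [CommRing A] [CommRing B] [Algebra R A] [Algebra R' B]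
  {𝒜 : ℕ → Submodule R A} [GradedAlgebra 𝒜] {ℬ : ℕ → Submodule R' B} [GradedAlgebra ℬ]
  (φ : 𝒜 →+*ᵍ ℬ) (hφ : ℬ₊ ≤ 𝒜₊.map φ)

theorem morphismRestrict_map {i : ℕ} (hi : 0 < i) {s : A} (hs : s ∈ 𝒜 i) :
    (Proj.map φ hφ ∣_ Proj.basicOpen 𝒜 s : (Proj.basicOpen ℬ (φ s) : Scheme.{u}) ⟶ _) =
      (Proj.basicOpenIsoSpec ℬ (φ s) (φ.map_mem hs) hi).hom ≫
        Spec.map (CommRingCat.ofHom (Away.map φ s)) ≫ (Proj.basicOpenIsoSpec 𝒜 s hs hi).inv := by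
  rw [← cancel_mono (Proj.basicOpen 𝒜 s).ι]
  refine (morphismRestrict_ι _ _).trans ?_
  refine Eq.trans ?_ (Category.assoc _ _ _).symm
  refine Eq.trans ?_ (congrArg (fun m => (Proj.basicOpenIsoSpec ℬ (φ s) (φ.map_mem hs) hi).hom ≫ m)
    ((Category.assoc _ _ _).trans (congrArg (Spec.map (CommRingCat.ofHom (Away.map φ s)) ≫ ·)
      (Proj.basicOpenIsoSpec_inv_ι 𝒜 s hs hi))).symm)
  rw [← Proj.awayι_comp_map φ hφ hi s hs, Proj.awayι, Category.assoc]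
  exact (Iso.hom_inv_id_assoc _ _).symm

theorem iSup_basicOpen_pos : ⨆ p : Σ d : ℕ, {a : A // 0 < d ∧ a ∈ 𝒜 d}, Proj.basicOpen 𝒜 p.2.1 = ⊤ := by
  refine Proj.iSup_basicOpen_eq_top 𝒜 _ ((HomogeneousIdeal.toIdeal_irrelevant_le _).2 fun i hi x hx => ?_)
  exact Ideal.subset_span ⟨⟨i, x, hi, hx⟩, rfl⟩

theorem of_charts (P : MorphismProperty Scheme.{u}) [IsZariskiLocalAtTarget P]
    (h : ∀ (i : ℕ) (s : A), 0 < i → s ∈ 𝒜 i → P (Spec.map (CommRingCat.ofHom (Away.map φ s)))) :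
    P (Proj.map φ hφ) := by
  refine IsZariskiLocalAtTarget.of_iSup_eq_top
    (fun p : Σ d : ℕ, {a : A // 0 < d ∧ a ∈ 𝒜 d} => Proj.basicOpen 𝒜 p.2.1) iSup_basicOpen_pos fun p => ?_
  have h1 : P ((Proj.basicOpenIsoSpec ℬ (φ p.2.1) (φ.map_mem p.2.2.2) p.2.2.1).hom ≫
      Spec.map (CommRingCat.ofHom (Away.map φ p.2.1)) ≫
        (Proj.basicOpenIsoSpec 𝒜 p.2.1 p.2.2.2 p.2.2.1).inv) :=
    (P.cancel_left_of_respectsIso _ _).2 ((P.cancel_right_of_respectsIso _ _).2 (h _ _ p.2.2.1 p.2.2.2))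
  exact morphismRestrict_map φ hφ p.2.2.1 p.2.2.2 ▸ h1

end Groth.Agent.Lib.ProjGlue.MapLocal
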