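import Mathlib.AlgebraicGeometry.ProjectiveSpectrum.Functor
import Mathlib.AlgebraicGeometry.ProjectiveSpectrum.Proper
import Mathlib.AlgebraicGeometry.Gluing

/-!
# Morphisms to `Proj` from ring maps multiplying degrees, and affine criteria
-/

noncomputable section

universe u

open CategoryTheory CategoryTheory.Limits AlgebraicGeometry TopologicalSpace HomogeneousLocalization

namespace Groth.Agent.Lib.ProjGlue

variable {R R' A B : Type u} [CommRing R] [CommRing R'] [CommRing A] [CommRing B] [Algebra R A] [Algebra R' B]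
  {𝒜 : ℕ → Submodule R A} [GradedAlgebra 𝒜] {ℬ : ℕ → Submodule R' B} [GradedAlgebra ℬ]

theorem awayι_congr_deg {a : A} {m m' : ℕ} (h : m = m') (ha : a ∈ 𝒜 m) (ha' : a ∈ 𝒜 m') (hm : 0 < m)
    (hm' : 0 < m') : Proj.awayι 𝒜 a ha hm = Proj.awayι 𝒜 a ha' hm' := by
  subst h; rfl

variable (φ : B →+* A) {d : ℕ} (hφ : ∀ n, ∀ b ∈ ℬ n, φ b ∈ 𝒜 (n * d))

include hφ in
theorem range_subset {b : B} {i : ℕ} (hb : b ∈ ℬ i) (z : Away ℬ b) :
    ∃ w : Away 𝒜 (φ b), w.val = Localization.awayMap φ b z.val := by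
  obtain ⟨k, c, hc, rfl⟩ := Away.mk_surjective ℬ hb z
  have h := hφ _ c hc
  rw [smul_eq_mul, mul_assoc, ← smul_eq_mul k] at h
  refine ⟨Away.mk 𝒜 (hφ i b hb) k (φ c) h, ?_⟩
  rw [Away.val_mk, Away.val_mk, Localization.mk_eq_mk', Localization.mk_eq_mk']
  simp only [Localization.awayMap, IsLocalization.Away.map, IsLocalization.map_mk', map_pow]

/-- The map on charts. -/
def theta {b : B} {i : ℕ} (hb : b ∈ ℬ i) : Away ℬ b →+* Away 𝒜 (φ b) :=
  let e := RingEquiv.ofLeftInverse (f := algebraMap (Away 𝒜 (φ b)) (Localization.Away (φ b)))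
    (h := (val_injective _).hasLeftInverse.choose_spec)
  e.symm.toRingHom.comp (((Localization.awayMap φ b).comp (algebraMap (Away ℬ b) (Localization.Away b))).codRestrict
    (algebraMap (Away 𝒜 (φ b)) (Localization.Away (φ b))).range fun z => by
      obtain ⟨w, hw⟩ := range_subset φ hφ hb z
      exact ⟨w, hw⟩)

theorem val_theta {b : B} {i : ℕ} (hb : b ∈ ℬ i) (z : Away ℬ b) :
    (theta φ hφ hb z).val = Localization.awayMap φ b z.val := by
  let e := RingEquiv.ofLeftInverse (f := algebraMap (Away 𝒜 (φ b)) (Localization.Away (φ b)))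
    (h := (val_injective _).hasLeftInverse.choose_spec)
  obtain ⟨w, hw⟩ := range_subset φ hφ hb z
  have h : theta φ hφ hb z = w := by
    apply e.injective
    simp only [theta, RingHom.comp_apply, RingEquiv.toRingHom_eq_coe, RingHom.coe_coe, e,
      RingEquiv.apply_symm_apply]
    exact Subtype.ext hw.symm
  rw [h, hw]

theorem theta_congr {b : B} {i i' : ℕ} (hb : b ∈ ℬ i) (hb' : b ∈ ℬ i') :
    (theta φ hφ hb : Away ℬ b →+* Away 𝒜 (φ b)) = theta φ hφ hb' :=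
  RingHom.ext fun z => val_injective _ (by rw [val_theta, val_theta])

theorem theta_awayMap {b c : B} {i j : ℕ} (hb : b ∈ ℬ i) (hc : c ∈ ℬ j) {x : B} (hx : x = b * c)
    (hxx : φ x = φ b * φ c) :
    (theta φ hφ (show x ∈ ℬ (i + j) by rw [hx]; exact SetLike.mul_mem_graded hb hc)).comp (awayMap ℬ hc hx) =
      (awayMap 𝒜 (hφ j c hc) hxx).comp (theta φ hφ hb) := by
  refine RingHom.ext fun z => val_injective _ ?_
  simp only [RingHom.comp_apply, val_theta, val_awayMap]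
  refine congrFun (congrArg DFunLike.coe ?_) z.val
    (f := (Localization.awayMap φ x).comp (Localization.awayLift (algebraMap B _) b
      (isUnit_of_dvd_unit (map_dvd _ ⟨c, hx⟩) (IsLocalization.Away.algebraMap_isUnit x))))
    (g := (Localization.awayLift (algebraMap A _) (φ b)
      (isUnit_of_dvd_unit (map_dvd _ ⟨φ c, hxx⟩) (IsLocalization.Away.algebraMap_isUnit (φ x)))).comp
        (Localization.awayMap φ b))
  refine IsLocalization.ringHom_ext (Submonoid.powers b) (RingHom.ext fun r => ?_)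
  simp [Localization.awayMap, IsLocalization.Away.map]

variable (hd : 0 < d)

/-- The open where the morphism is defined. -/
def dom : (Proj 𝒜).Opens := ⨆ f : {f : B // ∃ i : ℕ, 0 < i ∧ f ∈ ℬ i}, Proj.basicOpen 𝒜 (φ f.1)

include hd in
theorem chart_compat {W : (Proj 𝒜).Opens} {b c : B} {i j : ℕ} (hi : 0 < i) (hb : b ∈ ℬ i) (hj : 0 < j) (hc : c ∈ ℬ j)
    (s : Spec (.of (Away 𝒜 (φ b))) ⟶ (W : Scheme.{u})) (t : Spec (.of (Away 𝒜 (φ c))) ⟶ (W : Scheme.{u}))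
    (hs : s ≫ W.ι = Proj.awayι 𝒜 (φ b) (hφ i b hb) (Nat.mul_pos hi hd))
    (ht : t ≫ W.ι = Proj.awayι 𝒜 (φ c) (hφ j c hc) (Nat.mul_pos hj hd)) :
    pullback.fst s t ≫ Spec.map (CommRingCat.ofHom (theta φ hφ hb)) ≫ Proj.awayι ℬ b hb hi =
      pullback.snd s t ≫ Spec.map (CommRingCat.ofHom (theta φ hφ hc)) ≫ Proj.awayι ℬ c hc hj := by
  let k : pullback s t ⟶ pullback (Proj.awayι 𝒜 (φ b) (hφ i b hb) (Nat.mul_pos hi hd))
      (Proj.awayι 𝒜 (φ c) (hφ j c hc) (Nat.mul_pos hj hd)) :=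
    pullback.lift (pullback.fst _ _) (pullback.snd _ _) (by rw [← hs, ← ht, pullback.condition_assoc])
  let π := Proj.pullbackAwayιIso 𝒜 (hφ i b hb) (Nat.mul_pos hi hd) (hφ j c hc)
    (Nat.mul_pos hj hd) (map_mul φ b c)
  have h1 : pullback.fst s t = k ≫ π.hom ≫
      Spec.map (CommRingCat.ofHom (awayMap 𝒜 (hφ j c hc) (map_mul φ b c))) :=
    ((congrArg (k ≫ ·) (Proj.pullbackAwayιIso_hom_SpecMap_awayMap_left 𝒜 (hφ i b hb) (Nat.mul_pos hi hd)
      (hφ j c hc) (Nat.mul_pos hj hd) (map_mul φ b c))).trans (pullback.lift_fst _ _ _)).symm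
  have h2 : pullback.snd s t = k ≫ π.hom ≫
      Spec.map (CommRingCat.ofHom (awayMap 𝒜 (hφ i b hb) ((map_mul φ b c).trans (mul_comm _ _)))) :=
    ((congrArg (k ≫ ·) (Proj.pullbackAwayιIso_hom_SpecMap_awayMap_right 𝒜 (hφ i b hb) (Nat.mul_pos hi hd)
      (hφ j c hc) (Nat.mul_pos hj hd) (map_mul φ b c))).trans (pullback.lift_snd _ _ _)).symm
  rw [h1, h2]
  simp only [Category.assoc]
  congr 2
  rw [← Spec.map_comp_assoc, ← Spec.map_comp_assoc, ← CommRingCat.ofHom_comp, ← CommRingCat.ofHom_comp,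
    ← theta_awayMap φ hφ hb hc rfl (map_mul φ b c),
    ← theta_awayMap φ hφ hc hb (mul_comm b c) ((map_mul φ b c).trans (mul_comm _ _)),
    CommRingCat.ofHom_comp, CommRingCat.ofHom_comp, Spec.map_comp_assoc, Spec.map_comp_assoc,
    Proj.SpecMap_awayMap_awayι, Proj.SpecMap_awayMap_awayι]
  exact congrArg₂ (fun x y => Spec.map (CommRingCat.ofHom x) ≫ y) (theta_congr φ hφ _ _)
    (awayι_congr_deg (Nat.add_comm i j) _ _ _ _)

include hd in
/-- Charts glue to a unique morphism. -/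
theorem existsUnique_map (W : (Proj 𝒜).Opens) (hW : W ≤ dom (ℬ := ℬ) φ)
    (hWle : ∀ b i, 0 < i → b ∈ ℬ i → Proj.basicOpen 𝒜 (φ b) ≤ W) :
    ∃! p : (W : Scheme.{u}) ⟶ Proj ℬ, ∀ (i : ℕ) (b : B) (hi : 0 < i) (hb : b ∈ ℬ i)
      (s : Spec (.of (Away 𝒜 (φ b))) ⟶ (W : Scheme.{u})),
      s ≫ W.ι = Proj.awayι 𝒜 (φ b) (hφ i b hb) (Nat.mul_pos hi hd) →
        s ≫ p = Spec.map (CommRingCat.ofHom (theta φ hφ hb)) ≫ Proj.awayι ℬ b hb hi := by
  let I := Σ i : ℕ, {b : B // 0 < i ∧ b ∈ ℬ i}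
  have hrange : ∀ q : I, Set.range (Proj.awayι 𝒜 (φ q.2.1) (hφ _ _ q.2.2.2) (Nat.mul_pos q.2.2.1 hd)) ⊆
      Set.range W.ι := fun q => by
    rw [Scheme.Opens.range_ι, ← Scheme.Hom.coe_opensRange, Proj.opensRange_awayι]
    exact hWle _ _ q.2.2.1 q.2.2.2
  let ch : ∀ q : I, Spec (.of (Away 𝒜 (φ q.2.1))) ⟶ (W : Scheme.{u}) := fun q =>
    IsOpenImmersion.lift W.ι _ (hrange q)
  have hch : ∀ q, ch q ≫ W.ι = Proj.awayι 𝒜 (φ q.2.1) (hφ _ _ q.2.2.2) (Nat.mul_pos q.2.2.1 hd) :=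
    fun q => IsOpenImmersion.lift_fac _ _ _
  have hoi : ∀ q, IsOpenImmersion (ch q) := fun q => by
    haveI : IsOpenImmersion (ch q ≫ W.ι) := by rw [hch]; infer_instance
    exact IsOpenImmersion.of_comp (ch q) W.ι
  let 𝒰 : (W : Scheme.{u}).OpenCover := .mkOfCovers I (fun q => Spec (.of (Away 𝒜 (φ q.2.1)))) ch
    (fun x => by
      obtain ⟨⟨b, i, hi, hb⟩, hxb⟩ := Opens.mem_iSup.1 (hW x.2)
      rw [← Proj.opensRange_awayι 𝒜 (φ b) (hφ _ _ hb) (Nat.mul_pos hi hd)] at hxb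
      obtain ⟨y, hy⟩ := hxb
      refine ⟨⟨i, b, hi, hb⟩, y, W.ι.isOpenEmbedding.injective ?_⟩
      rw [← Scheme.Hom.comp_apply, hch]
      exact hy)
    hoi
  let g : ∀ q : I, Spec (.of (Away 𝒜 (φ q.2.1))) ⟶ Proj ℬ := fun q =>
    Spec.map (CommRingCat.ofHom (theta φ hφ q.2.2.2)) ≫ Proj.awayι ℬ q.2.1 q.2.2.2 q.2.2.1
  have hcomp : ∀ q r : I, pullback.fst (ch q) (ch r) ≫ g q = pullback.snd (ch q) (ch r) ≫ g r :=
    fun q r => chart_compat φ hφ hd q.2.2.1 q.2.2.2 r.2.2.1 r.2.2.2 (ch q) (ch r) (hch q) (hch r)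
  refine ⟨𝒰.glueMorphisms g hcomp, fun i b hi hb s hs => ?_, fun p hp => ?_⟩
  · have : s = 𝒰.f ⟨i, b, hi, hb⟩ := (cancel_mono W.ι).1 (hs.trans (hch ⟨i, b, hi, hb⟩).symm)
    rw [this]
    exact 𝒰.ι_glueMorphisms g hcomp ⟨i, b, hi, hb⟩
  · refine 𝒰.hom_ext _ _ fun q => ?_
    rw [𝒰.ι_glueMorphisms]
    exact hp q.1 q.2.1 q.2.2.1 q.2.2.2 (ch q) (hch q)

end Groth.Agent.Lib.ProjGlue
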