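import Groth.Prelude.Def_Cone
import Groth.Agent.Lib.ProjGlue.MapLocal
import Groth.Agent.Lib.ProjGlue.Basic
import Mathlib.AlgebraicGeometry.Pullbacks
import Mathlib.AlgebraicGeometry.Morphisms.Affine

/-!
# The retraction of the pointed affine cone
-/

noncomputable section

universe u

open CategoryTheory CategoryTheory.Limits AlgebraicGeometry TopologicalSpace HomogeneousLocalization
open scoped TensorProduct

namespace Groth.Agent.Lib.ProjGlue.ConeGlue

variable {R A : Type u} [CommRing R] [CommRing A] [Algebra R A] {𝒜 : ℕ → Submodule R A} [GradedAlgebra 𝒜]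

/-- The inclusion of the degree-zero part of a localisation. -/
abbrev θ (𝒜 : ℕ → Submodule R A) [GradedAlgebra 𝒜] (f : A) : Away 𝒜 f →+* Localization.Away f :=
  algebraMap (Away 𝒜 f) (Localization.Away f)

theorem factor {T : Type u} [CommRing T] {f g : A} {i j : ℕ} (hi : 0 < i) (hf : f ∈ 𝒜 i) (hj : 0 < j)
    (hg : g ∈ 𝒜 j) (u : Localization.Away f →+* T) (v : Localization.Away g →+* T)
    (huv : u.comp (algebraMap A _) = v.comp (algebraMap A _)) :
    Spec.map (CommRingCat.ofHom (u.comp (θ 𝒜 f))) ≫ Proj.awayι 𝒜 f hf hi =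
      Spec.map (CommRingCat.ofHom (v.comp (θ 𝒜 g))) ≫ Proj.awayι 𝒜 g hg hj := by
  have hunit : IsUnit ((u.comp (algebraMap A _)) (f * g)) := by
    rw [map_mul]
    refine IsUnit.mul ((IsLocalization.Away.algebraMap_isUnit (S := Localization.Away f) f).map u) ?_
    rw [huv]
    exact (IsLocalization.Away.algebraMap_isUnit (S := Localization.Away g) g).map v
  let w : Localization.Away (f * g) →+* T := IsLocalization.Away.lift (f * g) hunit
  have h1 : u.comp (θ 𝒜 f) = (w.comp (θ 𝒜 (f * g))).comp (awayMap 𝒜 hg rfl) := by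
    refine RingHom.ext fun z => ?_
    change u z.val = w (awayMap 𝒜 hg rfl z).val
    rw [val_awayMap]
    refine RingHom.congr_fun (f := u) (g := w.comp (Localization.awayLift (algebraMap A _) f _)) ?_ z.val
    refine IsLocalization.ringHom_ext (Submonoid.powers f) (RingHom.ext fun a => ?_)
    simp [w]
  have h2 : v.comp (θ 𝒜 g) = (w.comp (θ 𝒜 (f * g))).comp (awayMap 𝒜 hf (mul_comm f g)) := by
    refine RingHom.ext fun z => ?_
    change v z.val = w (awayMap 𝒜 hf (mul_comm f g) z).val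
    rw [val_awayMap]
    refine RingHom.congr_fun (f := v) (g := w.comp (Localization.awayLift (algebraMap A _) g _)) ?_ z.val
    refine IsLocalization.ringHom_ext (Submonoid.powers g) (RingHom.ext fun a => ?_)
    simp [w]
    exact (RingHom.congr_fun huv a).symm
  rw [h1, h2, CommRingCat.ofHom_comp (awayMap 𝒜 hg rfl), CommRingCat.ofHom_comp (awayMap 𝒜 hf (mul_comm f g)),
    Spec.map_comp_assoc, Spec.map_comp_assoc, Proj.SpecMap_awayMap_awayι, Proj.SpecMap_awayMap_awayι]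
  exact congrArg (Spec.map (CommRingCat.ofHom (w.comp (θ 𝒜 (f * g)))) ≫ ·) (awayι_congr_deg (Nat.add_comm i j) _ _ _ _)

theorem chart_ι {i : ℕ} {f : A} (hi : 0 < i) (hf : f ∈ 𝒜 i) :
    Cone.chart hf hi ≫ (Cone.pointed 𝒜).ι = Spec.map (CommRingCat.ofHom (algebraMap A (Localization.Away f))) :=
  IsOpenImmersion.lift_fac _ _ _

instance chart_isOpenImmersion {i : ℕ} {f : A} (hi : 0 < i) (hf : f ∈ 𝒜 i) : IsOpenImmersion (Cone.chart hf hi) := by
  haveI : IsOpenImmersion (Spec.map (CommRingCat.ofHom (algebraMap A (Localization.Away f)))) :=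
    IsOpenImmersion.of_isLocalization f
  haveI : IsOpenImmersion (Cone.chart hf hi ≫ (Cone.pointed 𝒜).ι) := by rw [chart_ι]; infer_instance
  exact IsOpenImmersion.of_comp _ (Cone.pointed 𝒜).ι

theorem exists_chart (x : (Cone.pointed 𝒜 : Scheme.{u})) : ∃ (i : ℕ) (f : A) (hi : 0 < i) (hf : f ∈ 𝒜 i),
    x ∈ Set.range (Cone.chart hf hi).base := by
  classical
  obtain ⟨a, ha, hax⟩ := Set.not_subset.1 x.2
  obtain ⟨i, hi, hfi⟩ : ∃ i, 0 < i ∧ (DirectSum.decompose 𝒜 a i : A) ∉ x.1.asIdeal := by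
    by_contra hno
    push Not at hno
    apply hax
    rw [SetLike.mem_coe, ← DirectSum.sum_support_decompose 𝒜 a]
    refine Ideal.sum_mem _ fun i _ => ?_
    rcases Nat.eq_zero_or_pos i with rfl | hi
    · rw [← GradedRing.proj_apply, (HomogeneousIdeal.mem_irrelevant_iff _ _).1 ha]
      exact Ideal.zero_mem _
    · exact hno i hi
  refine ⟨i, (DirectSum.decompose 𝒜 a i : A), hi, SetLike.coe_mem _, ?_⟩
  have hx : x.1 ∈ Set.range (PrimeSpectrum.comap (algebraMap A (Localization.Away (DirectSum.decompose 𝒜 a i : A)))) := by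
    rw [PrimeSpectrum.localization_away_comap_range (Localization.Away (DirectSum.decompose 𝒜 a i : A)) (DirectSum.decompose 𝒜 a i : A)]
    exact hfi
  obtain ⟨y, hy⟩ := hx
  refine ⟨y, (Cone.pointed 𝒜).ι.isOpenEmbedding.injective ?_⟩
  rw [← Scheme.Hom.comp_apply, chart_ι]
  exact hy

variable (𝒜) in
/-- The retraction exists and is unique. -/
theorem existsUnique_retraction : ∃! π : (Cone.pointed 𝒜 : Scheme.{u}) ⟶ Proj 𝒜,
    ∀ (d : ℕ) (f : A) (hd : 0 < d) (hf : f ∈ 𝒜 d),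
      Cone.chart hf hd ≫ π = Spec.map (CommRingCat.ofHom (θ 𝒜 f)) ≫ Proj.awayι 𝒜 f hf hd := by
  let I := Σ i : ℕ, {f : A // 0 < i ∧ f ∈ 𝒜 i}
  let 𝒰 : (Cone.pointed 𝒜 : Scheme.{u}).OpenCover := .mkOfCovers I
    (fun q => Spec (.of (Localization.Away q.2.1))) (fun q => Cone.chart q.2.2.2 q.2.2.1)
    (fun x => by
      obtain ⟨i, f, hi, hf, hx⟩ := exists_chart x
      exact ⟨⟨i, f, hi, hf⟩, hx⟩)
    (fun q => inferInstance)
  let g : ∀ q : I, Spec (.of (Localization.Away q.2.1)) ⟶ Proj 𝒜 := fun q =>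
    Spec.map (CommRingCat.ofHom (θ 𝒜 q.2.1)) ≫ Proj.awayι 𝒜 q.2.1 q.2.2.2 q.2.2.1
  have hcomp : ∀ q r : I, pullback.fst (Cone.chart q.2.2.2 q.2.2.1) (Cone.chart r.2.2.2 r.2.2.1) ≫ g q =
      pullback.snd (Cone.chart q.2.2.2 q.2.2.1) (Cone.chart r.2.2.2 r.2.2.1) ≫ g r := by
    intro q r
    let Lf := Localization.Away q.2.1
    let Lg := Localization.Away r.2.1
    let k : pullback (Cone.chart q.2.2.2 q.2.2.1) (Cone.chart r.2.2.2 r.2.2.1) ⟶
        pullback (Spec.map (CommRingCat.ofHom (algebraMap A Lf))) (Spec.map (CommRingCat.ofHom (algebraMap A Lg))) :=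
      pullback.lift (pullback.fst _ _) (pullback.snd _ _) (by
        rw [← chart_ι q.2.2.1 q.2.2.2, ← chart_ι r.2.2.1 r.2.2.2, pullback.condition_assoc])
    let π := pullbackSpecIso A Lf Lg
    have h1 : pullback.fst (Cone.chart q.2.2.2 q.2.2.1) (Cone.chart r.2.2.2 r.2.2.1) =
        (k ≫ π.hom) ≫ Spec.map (CommRingCat.ofHom Algebra.TensorProduct.includeLeftRingHom) := by
      rw [Category.assoc, pullbackSpecIso_hom_fst, pullback.lift_fst]
    have h2 : pullback.snd (Cone.chart q.2.2.2 q.2.2.1) (Cone.chart r.2.2.2 r.2.2.1) =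
        (k ≫ π.hom) ≫ Spec.map (CommRingCat.ofHom
          (Algebra.TensorProduct.includeRight : Lg →ₐ[A] Lf ⊗[A] Lg).toRingHom) := by
      rw [Category.assoc]
      erw [pullbackSpecIso_hom_snd, pullback.lift_snd]
    rw [h1, h2]
    simp only [g, Category.assoc]
    congr 2
    rw [← Spec.map_comp_assoc, ← Spec.map_comp_assoc, ← CommRingCat.ofHom_comp, ← CommRingCat.ofHom_comp]
    refine factor q.2.2.1 q.2.2.2 r.2.2.1 r.2.2.2 _ _ (RingHom.ext fun a => ?_)
    simp [Algebra.TensorProduct.algebraMap_apply]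
    rfl
  refine ⟨𝒰.glueMorphisms g hcomp, fun d f hd hf => 𝒰.ι_glueMorphisms g hcomp ⟨d, f, hd, hf⟩, fun p hp => ?_⟩
  refine 𝒰.hom_ext _ _ fun q => ?_
  rw [𝒰.ι_glueMorphisms]
  exact hp q.1 q.2.1 q.2.2.1 q.2.2.2

variable {π : (Cone.pointed 𝒜 : Scheme.{u}) ⟶ Proj 𝒜}
  (hπ : ∀ (d : ℕ) (f : A) (hd : 0 < d) (hf : f ∈ 𝒜 d),
    Cone.chart hf hd ≫ π = Spec.map (CommRingCat.ofHom (θ 𝒜 f)) ≫ Proj.awayι 𝒜 f hf hd)

include hπ in
theorem preimage_basicOpen {d : ℕ} {g : A} (hd : 0 < d) (hg : g ∈ 𝒜 d) :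
    π ⁻¹ᵁ Proj.basicOpen 𝒜 g = (Cone.pointed 𝒜).ι ⁻¹ᵁ Cone.coneOpen g := by
  refine Opens.ext (Set.ext fun x => ?_)
  obtain ⟨i, f, hi, hf, y, rfl⟩ := exists_chart x
  have h1 : Cone.chart hf hi ⁻¹ᵁ (π ⁻¹ᵁ Proj.basicOpen 𝒜 g) =
      Cone.chart hf hi ⁻¹ᵁ ((Cone.pointed 𝒜).ι ⁻¹ᵁ Cone.coneOpen g) := by
    rw [← Scheme.Hom.comp_preimage, ← Scheme.Hom.comp_preimage, chart_ι, hπ i f hi hf,
      Scheme.Hom.comp_preimage, Proj.awayι_preimage_basicOpen 𝒜 hf hi hg hd]
    refine (PrimeSpectrum.comap_basicOpen (θ 𝒜 f) _).trans ?_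
    refine Eq.trans ?_ (PrimeSpectrum.comap_basicOpen (algebraMap A (Localization.Away f)) g).symm
    have hu : IsUnit ((IsLocalization.mk' (Localization.Away f) (1 : A) (⟨f ^ d, d, rfl⟩ : Submonoid.powers f))) :=
      IsUnit.of_mul_eq_one (algebraMap A _ (f ^ d)) (by
        rw [IsLocalization.mk'_spec, map_one])
    have he : θ 𝒜 f (Away.isLocalizationElem hf hg) = algebraMap A (Localization.Away f) g ^ i *
        IsLocalization.mk' (Localization.Away f) (1 : A) (⟨f ^ d, d, rfl⟩ : Submonoid.powers f) := by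
      simp only [θ, HomogeneousLocalization.algebraMap_apply, Away.val_mk, Away.isLocalizationElem,
        Localization.mk_eq_mk', ← map_pow]
      rw [IsLocalization.mul_mk'_eq_mk'_of_mul, mul_one]
    rw [he, PrimeSpectrum.basicOpen_mul, PrimeSpectrum.basicOpen_pow _ i hi,
      show PrimeSpectrum.basicOpen _ = (⊤ : Opens (PrimeSpectrum (Localization.Away f))) from
        top_le_iff.1 fun z _ hz => z.isPrime.ne_top (Ideal.eq_top_of_isUnit_mem _ hz hu), inf_top_eq]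
  exact Iff.of_eq (congrArg (fun O : (Spec (.of (Localization.Away f))).Opens => y ∈ O) h1)

include hπ in
theorem ideal_eq (p : (Cone.pointed 𝒜 : Scheme.{u})) :
    (π.base p).asHomogeneousIdeal = (((Cone.pointed 𝒜).ι.base p).asIdeal).homogeneousCore 𝒜 := by
  classical
  obtain ⟨i, f, hi, hf, y, hy⟩ := exists_chart p
  let P : PrimeSpectrum A := (Cone.pointed 𝒜).ι.base p
  let q : ProjectiveSpectrum 𝒜 := π.base p
  have key : ∀ d g, 0 < d → g ∈ 𝒜 d → (g ∈ q.asHomogeneousIdeal.toIdeal ↔ g ∈ P.asIdeal) := fun d g hd hg =>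
    not_iff_not.1 (Iff.of_eq (congrArg (fun O : (Cone.pointed 𝒜 : Scheme.{u}).Opens => p ∈ O)
      (preimage_basicOpen hπ hd hg)))
  have hfP : f ∉ P.asIdeal := by
    have hmem : P ∈ Set.range (PrimeSpectrum.comap (algebraMap A (Localization.Away f))) := ⟨y, by
      change _ = (Cone.pointed 𝒜).ι.base p
      rw [← hy, ← Scheme.Hom.comp_apply, chart_ι]
      rfl⟩
    rw [PrimeSpectrum.localization_away_comap_range (Localization.Away f) f] at hmem
    exact hmem
  have hfq : f ∉ q.asHomogeneousIdeal.toIdeal := fun h => hfP ((key i f hi hf).1 h)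
  have hall : ∀ j g, g ∈ 𝒜 j → (g ∈ q.asHomogeneousIdeal.toIdeal ↔ g ∈ P.asIdeal) := fun j g hg =>
    have h := key (i + j) (f * g) (by omega) (SetLike.mul_mem_graded hf hg)
    ⟨fun hq => (P.isPrime.mem_or_mem (h.1 (Ideal.mul_mem_left _ _ hq))).resolve_left hfP,
      fun hP => (q.isPrime.mem_or_mem (h.2 (Ideal.mul_mem_left _ _ hP))).resolve_left hfq⟩
  refine HomogeneousIdeal.ext (le_antisymm (fun a ha => ?_) fun a ha => ?_)
  · have hsub : a ∈ (Ideal.homogeneousCore 𝒜 P.asIdeal).toIdeal := by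
      rw [← DirectSum.sum_support_decompose 𝒜 a]
      refine Ideal.sum_mem _ fun j _ => ?_
      exact Ideal.mem_homogeneousCore_of_homogeneous_of_mem ⟨j, SetLike.coe_mem _⟩
        ((hall j _ (SetLike.coe_mem _)).1 (q.asHomogeneousIdeal.isHomogeneous j ha))
    exact hsub
  · change a ∈ q.asHomogeneousIdeal.toIdeal
    rw [← DirectSum.sum_support_decompose 𝒜 a]
    refine Ideal.sum_mem _ fun j _ => (hall j _ (SetLike.coe_mem _)).2 ?_
    exact Ideal.toIdeal_homogeneousCore_le 𝒜 _ ((Ideal.homogeneousCore 𝒜 P.asIdeal).isHomogeneous j ha)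

include hπ in
theorem surjective : Surjective π := ⟨fun x => by
  let q : ProjectiveSpectrum 𝒜 := x
  obtain ⟨a, ha, hax⟩ := Set.not_subset.1 q.not_irrelevant_le
  let p : (Cone.pointed 𝒜 : Scheme.{u}) :=
    ⟨(⟨q.asHomogeneousIdeal.toIdeal, q.isPrime⟩ : PrimeSpectrum A), fun hle => hax (hle ha)⟩
  refine ⟨p, ProjectiveSpectrum.ext ((ideal_eq hπ p).trans ?_)⟩
  exact q.asHomogeneousIdeal.toIdeal_homogeneousCore_eq_self⟩

include hπ in
theorem isAffineHom : IsAffineHom π := by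
  refine IsZariskiLocalAtTarget.of_iSup_eq_top (P := @IsAffineHom)
    (fun q : Σ d : ℕ, {a : A // 0 < d ∧ a ∈ 𝒜 d} => Proj.basicOpen 𝒜 q.2.1) MapLocal.iSup_basicOpen_pos
    fun ⟨d, g, hd, hg⟩ => ?_
  haveI : IsAffine (Proj.basicOpen 𝒜 g : Scheme.{u}) := Proj.isAffineOpen_basicOpen 𝒜 g hg hd
  have haff : IsAffineOpen (π ⁻¹ᵁ Proj.basicOpen 𝒜 g) := by
    rw [preimage_basicOpen hπ hd hg]
    have hle : Cone.coneOpen g ≤ (Cone.pointed 𝒜).ι.opensRange := by
      rw [Scheme.Opens.opensRange_ι]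
      intro z hz hzero
      exact hz ((PrimeSpectrum.mem_zeroLocus _ _).1 hzero
        ((HomogeneousIdeal.toIdeal_irrelevant_le _).1 le_rfl d hd hg))
    refine ((Cone.pointed 𝒜).ι.isAffineOpen_iff_of_isOpenImmersion).1 ?_
    rw [Scheme.Hom.image_preimage_eq_opensRange_inf, inf_eq_right.2 hle]
    exact IsAffineOpen.Spec_basicOpen (R := CommRingCat.of A) g
  haveI : IsAffine (π ⁻¹ᵁ Proj.basicOpen 𝒜 g : Scheme.{u}) := haff
  exact isAffineHom_of_isAffine _

end Groth.Agent.Lib.ProjGlue.ConeGlue
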