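import Groth.Agent.Lib.ProjGlue.MapLocal
import Mathlib.AlgebraicGeometry.Properties

/-!
# Emptiness and reducedness of `Proj`
-/

noncomputable section

universe u

open CategoryTheory AlgebraicGeometry TopologicalSpace HomogeneousLocalization

namespace Groth.Agent.Lib.ProjGlue.Reduced

variable {R A : Type u} [CommRing R] [CommRing A] [Algebra R A] {𝒜 : ℕ → Submodule R A} [GradedAlgebra 𝒜]

theorem mem_irrelevant {i : ℕ} {x : A} (hi : 0 < i) (hx : x ∈ 𝒜 i) : x ∈ (HomogeneousIdeal.irrelevant 𝒜).toIdeal :=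
  (HomogeneousIdeal.toIdeal_irrelevant_le _).1 le_rfl _ hi hx

/-- A standard open is empty iff its element is nilpotent. -/
theorem basicOpen_eq_bot_iff {i : ℕ} {f : A} (hi : 0 < i) (hf : f ∈ 𝒜 i) :
    Proj.basicOpen 𝒜 f = ⊥ ↔ IsNilpotent f := by
  refine ⟨fun h => ?_, fun ⟨k, hk⟩ => eq_bot_iff.2 fun x hx => hx (x.isPrime.mem_of_pow_mem k (by
    rw [hk]; exact x.asHomogeneousIdeal.toIdeal.zero_mem))⟩
  have he : IsEmpty (PrimeSpectrum (Away 𝒜 f)) := ⟨fun y => (h.le (show Proj.awayι 𝒜 f hf hi y ∈ _ by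
      rw [← Proj.opensRange_awayι 𝒜 f hf hi]; exact ⟨y, rfl⟩) : False)⟩
  have hsub : Subsingleton (Away 𝒜 f) := by
    by_contra hns
    rw [not_subsingleton_iff_nontrivial] at hns
    exact he.false (Classical.arbitrary (PrimeSpectrum (Away 𝒜 f)))
  have h1 := congrArg HomogeneousLocalization.val (Subsingleton.elim (1 : Away 𝒜 f) 0)
  rw [HomogeneousLocalization.val_one, HomogeneousLocalization.val_zero] at h1
  obtain ⟨⟨_, k, rfl⟩, hk⟩ := (IsLocalization.map_eq_zero_iff (Submonoid.powers f) (Localization.Away f) 1).1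
    (by rw [map_one]; exact h1)
  exact ⟨k, by simpa using hk⟩

/-- `Proj` is empty iff the irrelevant ideal is nil. -/
theorem isEmpty_iff : IsEmpty (Proj 𝒜) ↔ ∀ f ∈ (HomogeneousIdeal.irrelevant 𝒜).toIdeal, IsNilpotent f := by
  classical
  refine ⟨fun he f hf => ?_, fun h => ⟨fun x => x.not_irrelevant_le fun g hg => ?_⟩⟩
  · rw [← mem_nilradical, ← DirectSum.sum_support_decompose 𝒜 f]
    refine Ideal.sum_mem _ fun i _ => ?_
    rcases Nat.eq_zero_or_pos i with rfl | hi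
    · rw [← GradedRing.proj_apply, (HomogeneousIdeal.mem_irrelevant_iff _ _).1 hf]
      exact Ideal.zero_mem _
    · exact mem_nilradical.2 ((basicOpen_eq_bot_iff hi (SetLike.coe_mem _)).1
        (eq_bot_iff.2 fun x _ => (he.false x).elim))
  · obtain ⟨k, hk⟩ := h g hg
    exact x.isPrime.mem_of_pow_mem k (by rw [hk]; exact x.asHomogeneousIdeal.toIdeal.zero_mem)

theorem isReduced (hred : ∀ f ∈ (HomogeneousIdeal.irrelevant 𝒜).toIdeal, IsNilpotent f → f = 0) :
    AlgebraicGeometry.IsReduced (Proj 𝒜) := by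
  let 𝒱 : (Proj 𝒜).OpenCover := .mkOfCovers (Σ d : ℕ, {a : A // 0 < d ∧ a ∈ 𝒜 d})
    (fun p => Spec (.of (Away 𝒜 p.2.1))) (fun p => Proj.awayι 𝒜 p.2.1 p.2.2.2 p.2.2.1)
    (fun x => by
      obtain ⟨p, hp⟩ := Opens.mem_iSup.1 ((MapLocal.iSup_basicOpen_pos (𝒜 := 𝒜)).ge (Opens.mem_top x))
      rw [← Proj.opensRange_awayι 𝒜 p.2.1 p.2.2.2 p.2.2.1] at hp
      exact ⟨p, hp⟩)
    (fun _ => inferInstance)
  haveI : ∀ p, AlgebraicGeometry.IsReduced (𝒱.X p) := fun p => by
    obtain ⟨i, f, hi, hf⟩ := p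
    haveI : _root_.IsReduced (Away 𝒜 f) := ⟨fun z ⟨k, hk⟩ => by
      obtain ⟨n, x, hx, rfl⟩ := Away.mk_surjective 𝒜 hf z
      have hk' := congrArg HomogeneousLocalization.val hk
      rw [HomogeneousLocalization.val_pow, Away.val_mk, HomogeneousLocalization.val_zero, Localization.mk_pow,
        Localization.mk_eq_mk', IsLocalization.mk'_eq_zero_iff] at hk'
      obtain ⟨⟨_, m, rfl⟩, hm⟩ := hk'
      change f ^ m * x ^ k = 0 at hm
      have h0 : f * x = 0 := hred _ (mem_irrelevant (i := i + n • i) (by omega) (SetLike.mul_mem_graded hf hx))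
        ⟨m + k, by rw [mul_pow]; linear_combination (f ^ k * x ^ m) * hm⟩
      refine HomogeneousLocalization.val_injective _ ?_
      rw [Away.val_mk, HomogeneousLocalization.val_zero, Localization.mk_eq_mk', IsLocalization.mk'_eq_zero_iff]
      exact ⟨⟨f, 1, pow_one _⟩, h0⟩⟩
    exact inferInstanceAs (AlgebraicGeometry.IsReduced (Spec (.of (Away 𝒜 f))))
  exact IsReduced.of_openCover _ 𝒱

end Groth.Agent.Lib.ProjGlue.Reduced
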