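import Groth.Agent.Lib.ProjGlue.Basic
import Groth.Agent.Lib.ProjGlue.MapLocal

/-!
# `Proj` is unchanged by passing to a Veronese subring
-/

noncomputable section

universe u

open CategoryTheory CategoryTheory.Limits AlgebraicGeometry TopologicalSpace HomogeneousLocalization

namespace Groth.Agent.Lib.ProjGlue.Veronese

variable {R R' A B : Type u} [CommRing R] [CommRing R'] [CommRing A] [CommRing B] [Algebra R A] [Algebra R' B]
  {𝒜 : ℕ → Submodule R A} [GradedAlgebra 𝒜] {ℬ : ℕ → Submodule R' B} [GradedAlgebra ℬ]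
  (φ : B →+* A) {d : ℕ} (hφ : ∀ n, ∀ b ∈ ℬ n, φ b ∈ 𝒜 (n * d)) (hd : 0 < d)

theorem theta_bijective (hinj : Function.Injective φ) (hsurj : ∀ n, ∀ a ∈ 𝒜 (n * d), ∃ b ∈ ℬ n, φ b = a)
    {b : B} {i : ℕ} (hb : b ∈ ℬ i) : Function.Bijective (theta φ hφ hb) := by
  refine ⟨(injective_iff_map_eq_zero _).2 fun z hz => ?_, fun w => ?_⟩
  · obtain ⟨n, x, hx, rfl⟩ := Away.mk_surjective ℬ hb z
    have hz' := congrArg HomogeneousLocalization.val hz
    rw [val_theta, Away.val_mk, HomogeneousLocalization.val_zero, Localization.mk_eq_mk'] at hz'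
    simp only [Localization.awayMap, IsLocalization.Away.map, IsLocalization.map_mk'] at hz'
    rw [IsLocalization.mk'_eq_zero_iff] at hz'
    obtain ⟨⟨_, k, rfl⟩, hk⟩ := hz'
    change φ b ^ k * φ x = 0 at hk
    refine val_injective _ ?_
    rw [Away.val_mk, HomogeneousLocalization.val_zero, Localization.mk_eq_mk', IsLocalization.mk'_eq_zero_iff]
    exact ⟨⟨b ^ k, k, rfl⟩, hinj (by rw [map_mul, map_pow, map_zero]; exact hk)⟩
  · obtain ⟨n, a, ha, rfl⟩ := Away.mk_surjective 𝒜 (hφ i b hb) w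
    obtain ⟨c, hc, rfl⟩ := hsurj (n • i) a (by rwa [smul_eq_mul, mul_assoc, ← smul_eq_mul n])
    refine ⟨Away.mk ℬ hb n c hc, val_injective _ ?_⟩
    rw [val_theta, Away.val_mk, Away.val_mk, Localization.mk_eq_mk', Localization.mk_eq_mk']
    simp only [Localization.awayMap, IsLocalization.Away.map, IsLocalization.map_mk', map_pow]

theorem theta_isLocalizationElem {b g : B} {i j : ℕ} (hb : b ∈ ℬ i) (hg : g ∈ ℬ j) :
    (theta φ hφ hb (Away.isLocalizationElem hb hg)) ^ d = Away.isLocalizationElem (hφ i b hb) (hφ j g hg) := by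
  refine val_injective _ ?_
  rw [HomogeneousLocalization.val_pow, val_theta]
  simp only [Away.isLocalizationElem, Away.val_mk, Localization.mk_eq_mk', Localization.awayMap,
    IsLocalization.Away.map, IsLocalization.map_mk', map_pow]
  rw [← IsLocalization.mk'_pow]
  congr 1
  · rw [← pow_mul]
  · refine Subtype.ext ?_
    simp only [SubmonoidClass.coe_pow, ← pow_mul]

theorem dom_eq_top (hsurj : ∀ n, ∀ a ∈ 𝒜 (n * d), ∃ b ∈ ℬ n, φ b = a) (hd : 0 < d) :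
    dom (𝒜 := 𝒜) (ℬ := ℬ) φ = ⊤ := by
  refine top_le_iff.1 fun x _ => ?_
  obtain ⟨⟨m, a, hm, ha⟩, hxa⟩ := Opens.mem_iSup.1
    ((MapLocal.iSup_basicOpen_pos (𝒜 := 𝒜)).ge (Opens.mem_top x))
  obtain ⟨b, hb, hba⟩ := hsurj m (a ^ d) (by rw [mul_comm, ← smul_eq_mul]; exact SetLike.pow_mem_graded d ha)
  refine Opens.mem_iSup.2 ⟨⟨b, m, hm, hb⟩, ?_⟩
  rw [hba, Proj.mem_basicOpen]
  exact fun h => hxa (x.isPrime.mem_of_pow_mem d h)

theorem preimage_basicOpen {W : (Proj 𝒜).Opens} (hWtop : W ≤ dom (ℬ := ℬ) φ) {e : (W : Scheme.{u}) ⟶ Proj ℬ}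
    (he : ∀ (i : ℕ) (b : B) (hi : 0 < i) (hb : b ∈ ℬ i)
      (s : Spec (.of (Away 𝒜 (φ b))) ⟶ (W : Scheme.{u})),
      s ≫ W.ι = Proj.awayι 𝒜 (φ b) (hφ i b hb) (Nat.mul_pos hi hd) →
        s ≫ e = Spec.map (CommRingCat.ofHom (theta φ hφ hb)) ≫ Proj.awayι ℬ b hb hi)
    (hWle : ∀ b i, 0 < i → b ∈ ℬ i → Proj.basicOpen 𝒜 (φ b) ≤ W)
    {g : B} {j : ℕ} (hj : 0 < j) (hg : g ∈ ℬ j) :
    e ⁻¹ᵁ Proj.basicOpen ℬ g = W.ι ⁻¹ᵁ Proj.basicOpen 𝒜 (φ g) := by
  refine Opens.ext (Set.ext fun x => ?_)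
  obtain ⟨⟨b, i, hi, hb⟩, hxb⟩ := Opens.mem_iSup.1 (hWtop x.2)
  rw [← Proj.opensRange_awayι 𝒜 (φ b) (hφ i b hb) (Nat.mul_pos hi hd)] at hxb
  obtain ⟨y, hy⟩ := hxb
  let s := IsOpenImmersion.lift W.ι (Proj.awayι 𝒜 (φ b) (hφ i b hb) (Nat.mul_pos hi hd)) (by
    rw [Scheme.Opens.range_ι, ← Scheme.Hom.coe_opensRange, Proj.opensRange_awayι]
    exact hWle b i hi hb)
  have hs : s ≫ W.ι = _ := IsOpenImmersion.lift_fac _ _ _
  have hx : s y = x := W.ι.isOpenEmbedding.injective (by rw [← Scheme.Hom.comp_apply, hs]; exact hy)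
  have h1 : s ⁻¹ᵁ (e ⁻¹ᵁ Proj.basicOpen ℬ g) = s ⁻¹ᵁ (W.ι ⁻¹ᵁ Proj.basicOpen 𝒜 (φ g)) := by
    rw [← Scheme.Hom.comp_preimage, ← Scheme.Hom.comp_preimage, he i b hi hb s hs, hs,
      Scheme.Hom.comp_preimage, Proj.awayι_preimage_basicOpen ℬ hb hi hg hj,
      Proj.awayι_preimage_basicOpen 𝒜 (hφ i b hb) (Nat.mul_pos hi hd) (hφ j g hg) (Nat.mul_pos hj hd)]
    refine (PrimeSpectrum.comap_basicOpen (theta φ hφ hb) _).trans ?_
    rw [← theta_isLocalizationElem φ hφ hb hg, PrimeSpectrum.basicOpen_pow _ d hd]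
  rw [← hx]
  exact Iff.of_eq (congrArg (fun O : (Spec (.of (Away 𝒜 (φ b)))).Opens => y ∈ O) h1)

include hφ in
/-- A homogeneous prime of `B` is the preimage of one of `A` as soon as they agree on homogeneous elements of positive degree. -/
theorem ideal_eq_comap (hd : 0 < d) (q : ProjectiveSpectrum ℬ) (p : ProjectiveSpectrum 𝒜)
    (h : ∀ j g, 0 < j → g ∈ ℬ j → (g ∈ q.asHomogeneousIdeal ↔ φ g ∈ p.asHomogeneousIdeal)) :
    q.asHomogeneousIdeal.toIdeal = Ideal.comap φ p.asHomogeneousIdeal.toIdeal := by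
  classical
  obtain ⟨⟨i, b, hi, hb⟩, hqb⟩ := Opens.mem_iSup.1
    ((MapLocal.iSup_basicOpen_pos (𝒜 := ℬ)).ge (Opens.mem_top (q : Proj ℬ)))
  have hall : ∀ j g, g ∈ ℬ j → (g ∈ q.asHomogeneousIdeal.toIdeal ↔ φ g ∈ p.asHomogeneousIdeal.toIdeal) := by
    intro j g hg
    have hbg := h (i + j) (b * g) (by omega) (SetLike.mul_mem_graded hb hg)
    have hpb : φ b ∉ p.asHomogeneousIdeal.toIdeal := fun hc => hqb ((h i b hi hb).2 hc)
    rw [map_mul] at hbg
    exact ⟨fun hq => (p.isPrime.mem_or_mem (hbg.1 (q.asHomogeneousIdeal.toIdeal.mul_mem_left _ hq))).resolve_left hpb,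
      fun hp => (q.isPrime.mem_or_mem (hbg.2 (p.asHomogeneousIdeal.toIdeal.mul_mem_left _ hp))).resolve_left hqb⟩
  ext a
  have hdec : ∀ j, (DirectSum.decompose 𝒜 (φ a) (j * d) : A) = φ (DirectSum.decompose ℬ a j : B) := fun j => by
    conv_lhs => rw [← DirectSum.sum_support_decompose ℬ a]
    rw [map_sum, DirectSum.decompose_sum, DFinsupp.finsetSum_apply, AddSubmonoidClass.coe_finsetSum]
    rw [Finset.sum_eq_single j]
    · exact DirectSum.decompose_of_mem_same 𝒜 (hφ _ _ (SetLike.coe_mem _))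
    · intro k _ hk
      exact DirectSum.decompose_of_mem_ne 𝒜 (hφ _ _ (SetLike.coe_mem _))
        fun he => hk (Nat.eq_of_mul_eq_mul_right hd he)
    · intro hj
      rw [DFinsupp.notMem_support_iff.1 hj]
      simp
  constructor
  · intro ha
    rw [Ideal.mem_comap, ← DirectSum.sum_support_decompose ℬ a, map_sum]
    exact Ideal.sum_mem _ fun j _ => (hall j _ (SetLike.coe_mem _)).1 (q.asHomogeneousIdeal.isHomogeneous j ha)
  · intro ha
    rw [← DirectSum.sum_support_decompose ℬ a]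
    refine Ideal.sum_mem _ fun j _ => (hall j _ (SetLike.coe_mem _)).2 ?_
    rw [← hdec]
    exact p.asHomogeneousIdeal.isHomogeneous (j * d) (Ideal.mem_comap.1 ha)

include hd in
theorem exists_iso (hinj : Function.Injective φ) (hsurj : ∀ n, ∀ a ∈ 𝒜 (n * d), ∃ b ∈ ℬ n, φ b = a) :
    ∃ e : Proj 𝒜 ≅ Proj ℬ,
      (∀ p : Proj 𝒜, (e.hom.base p).asHomogeneousIdeal.toIdeal = Ideal.comap φ p.asHomogeneousIdeal.toIdeal) ∧
      ∀ (i : ℕ) (b : B) (hi : 0 < i) (hb : b ∈ ℬ i),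
        Proj.awayι 𝒜 (φ b) (hφ i b hb) (Nat.mul_pos hi hd) ≫ e.hom =
          Spec.map (CommRingCat.ofHom (theta φ hφ hb)) ≫ Proj.awayι ℬ b hb hi := by
  have htop := dom_eq_top (𝒜 := 𝒜) (ℬ := ℬ) φ hsurj hd
  obtain ⟨f, hf, -⟩ := existsUnique_map φ hφ hd (⊤ : (Proj 𝒜).Opens) htop.ge fun _ _ _ _ => le_top
  let F : Proj 𝒜 ⟶ Proj ℬ := (Proj 𝒜).topIso.inv ≫ f
  have hF : ∀ (i : ℕ) (b : B) (hi : 0 < i) (hb : b ∈ ℬ i),
      Proj.awayι 𝒜 (φ b) (hφ i b hb) (Nat.mul_pos hi hd) ≫ F =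
        Spec.map (CommRingCat.ofHom (theta φ hφ hb)) ≫ Proj.awayι ℬ b hb hi := fun i b hi hb => by
    rw [← Category.assoc]
    exact hf i b hi hb _ ((Category.assoc _ _ _).trans
      ((congrArg (_ ≫ ·) (Proj 𝒜).topIso.inv_hom_id).trans (Category.comp_id _)))
  have hpre : ∀ (j : ℕ) (g : B), 0 < j → g ∈ ℬ j → F ⁻¹ᵁ Proj.basicOpen ℬ g = Proj.basicOpen 𝒜 (φ g) := by
    intro j g hj hg
    rw [Scheme.Hom.comp_preimage, preimage_basicOpen φ hφ hd htop.ge hf (fun _ _ _ _ => le_top) hj hg,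
      ← Scheme.Hom.comp_preimage]
    exact congrArg (fun m => m ⁻¹ᵁ Proj.basicOpen 𝒜 (φ g)) (Proj 𝒜).topIso.inv_hom_id
  haveI : IsIso F := by
    refine IsZariskiLocalAtTarget.of_iSup_eq_top (P := MorphismProperty.isomorphisms Scheme.{u})
      (fun p : Σ j : ℕ, {g : B // 0 < j ∧ g ∈ ℬ j} => Proj.basicOpen ℬ p.2.1) MapLocal.iSup_basicOpen_pos
      fun ⟨j, g, hj, hg⟩ => ?_
    haveI : IsIso (CommRingCat.ofHom (theta φ hφ hg)) :=
      (ConcreteCategory.isIso_iff_bijective _).2 (theta_bijective φ hφ hinj hsurj hg)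
    have hsq : IsPullback (Spec.map (CommRingCat.ofHom (theta φ hφ hg)))
        (Proj.awayι 𝒜 (φ g) (hφ j g hg) (Nat.mul_pos hj hd)) (Proj.awayι ℬ g hg hj) F :=
      IsOpenImmersion.isPullback _ _ _ _ (hF j g hj hg) (by
        rw [Proj.opensRange_awayι, Proj.opensRange_awayι]
        exact hpre j g hj hg)
    exact (MorphismProperty.arrow_mk_iso_iff _
      (morphismRestrictEq F (Proj.opensRange_awayι ℬ g hg hj))).1
      ((MorphismProperty.arrow_mk_iso_iff _ (morphismRestrictOpensRange F (Proj.awayι ℬ g hg hj))).2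
        (by
          change IsIso (pullback.snd F (Proj.awayι ℬ g hg hj))
          rw [← hsq.flip.isoPullback_inv_snd]
          infer_instance))
  refine ⟨asIso F, fun p => ideal_eq_comap φ hφ hd _ p fun j g hj hg => ?_, hF⟩
  exact not_iff_not.1 (Iff.of_eq (congrArg (fun O : (Proj 𝒜).Opens => p ∈ O) (hpre j g hj hg)))

end Groth.Agent.Lib.ProjGlue.Veronese
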